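import Cfsg.Agent.Syl2.Sp
import Cfsg.Agent.Solv.Frattini
import Mathlib.GroupTheory.RegularWreathProduct

/-! Derived lengths: wreath products (lower bounds) and permutation groups (upper bounds). -/

namespace Cfsg.Agent.Pool10
open Subgroup Cfsg Equiv Cfsg.Agent.Syl2
open scoped commutatorElement

universe u

variable {G H : Type*} [Group G] [Group H] {p : ℕ}

theorem ds_bot_of_inj (f : H →* G) (hf : Function.Injective f) {n : ℕ} (h : derivedSeries G n = ⊥) :
    derivedSeries H n = ⊥ :=
  (map_eq_bot_iff_of_injective _ hf).1 (eq_bot_iff.2 (h ▸ map_derivedSeries_le_derivedSeries f n))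

theorem ds_bot_of_surj (f : H →* G) (hf : Function.Surjective f) {n : ℕ} (h : derivedSeries H n = ⊥) :
    derivedSeries G n = ⊥ := by rw [← map_derivedSeries_eq hf, h, Subgroup.map_bot]

theorem ds_bot_mono {m n : ℕ} (h : derivedSeries G m = ⊥) (hmn : m ≤ n) : derivedSeries G n = ⊥ :=
  eq_bot_iff.2 (h ▸ derivedSeries_antitone G hmn)

theorem ds_add_le {M : Subgroup G} {a : ℕ} (h : derivedSeries G a ≤ M) (b : ℕ) :
    derivedSeries G (a + b) ≤ (derivedSeries M b).map M.subtype := by
  induction b with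
  | zero => simpa [← MonoidHom.range_eq_map] using h
  | succ b ih => rw [← add_assoc, derivedSeries_succ, derivedSeries_succ, map_commutator]; exact commutator_mono ih ih

theorem map_ds_le {M : Subgroup G} {a : ℕ} (h : M ≤ derivedSeries G a) (b : ℕ) :
    (derivedSeries M b).map M.subtype ≤ derivedSeries G (a + b) := by
  induction b with
  | zero => simpa [← MonoidHom.range_eq_map] using h
  | succ b ih => rw [← add_assoc, derivedSeries_succ, derivedSeries_succ, map_commutator]; exact commutator_mono ih ih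

theorem ds_sylow [Finite G] [Fact p.Prime] (P : Sylow p G) {K : Subgroup G} (hK : IsPGroup p K) {n : ℕ}
    (h : derivedSeries (P : Subgroup G) n = ⊥) : derivedSeries K n = ⊥ := by
  obtain ⟨Q, hQ⟩ := hK.exists_le_sylow
  exact ds_bot_of_inj ((Q.equiv P).toMonoidHom.comp (inclusion hQ))
    ((Q.equiv P).injective.comp (inclusion_injective hQ)) h

theorem ds_le_of_index [hp : Fact p.Prime] (k : ℕ) : ∀ {P : Type u} [Group P] [Finite P], IsPGroup p P →
    ∀ K : Subgroup P, K.index < p ^ (k + 1) → derivedSeries P k ≤ K := by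
  induction k with
  | zero =>
    intro P _ _ hP K hK
    obtain ⟨n, hn⟩ := hP.index K
    rw [hn, Nat.pow_lt_pow_iff_right hp.out.one_lt] at hK
    rw [show n = 0 by omega, pow_zero, index_eq_one] at hn
    exact hn ▸ le_top
  | succ k ih =>
    intro P _ _ hP K hK
    rcases eq_top_or_exists_le_coatom K with rfl | ⟨M, hM, hKM⟩
    · exact le_top
    have := hP.isNilpotent
    have h1 : derivedSeries P 1 ≤ M := (Solv.commutator_le_frattini (G := P)).trans (frattini_le_coatom hM)
    rw [add_comm k 1]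
    refine (ds_add_le h1 k).trans (map_le_iff_le_comap.2 (ih (hP.to_subgroup M) (K.subgroupOf M) ?_))
    rw [← relIndex_mul_index hKM, Solv.index_eq_of_isCoatom hP hM, pow_succ] at hK
    exact lt_of_mul_lt_mul_right hK p.zero_le

theorem ds_perm [Fact p.Prime] {κ : Type*} [Finite κ] {T : Subgroup (Perm κ)} (hT : IsPGroup p T) {k : ℕ}
    (h : Nat.card κ < p ^ (k + 1)) : derivedSeries T k = ⊥ := by
  refine eq_bot_iff.2 fun g hg => Subtype.ext (Equiv.ext fun x => ?_)
  refine ds_le_of_index k hT (MulAction.stabilizer T x) (lt_of_le_of_lt ?_ h) hg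
  rw [MulAction.index_stabilizer]
  exact Set.ncard_le_card _

section wreath
variable {D Q : Type*} [Group D] [Group Q]
open RegularWreathProduct

/-- the first coordinate on the base group -/
def ev1 (N : Subgroup (D ≀ᵣ Q)) : ↥(N ⊓ rightHom.ker) →* D where
  toFun x := x.1.left 1
  map_one' := rfl
  map_mul' x y := by simp [show x.1.right = 1 from x.2.2]

theorem ev1_surj {N : Subgroup (D ≀ᵣ Q)} {q : Q} (hq : q ≠ 1) (h : ∀ x : D ≀ᵣ Q, ⁅x, (inl q : D ≀ᵣ Q)⁆ ∈ N) :
    Function.Surjective (ev1 N) := fun u => by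
  classical
  refine ⟨⟨⁅(⟨Pi.mulSingle 1 u, 1⟩ : D ≀ᵣ Q), inl q⁆, h _, ?_⟩, ?_⟩
  · simp [MonoidHom.mem_ker, commutatorElement_def]
  · simp [ev1, commutatorElement_def, hq]

theorem ds_wreath [Nontrivial Q] {d : ℕ} (h : derivedSeries D d ≠ ⊥) : derivedSeries (D ≀ᵣ Q) (d + 1) ≠ ⊥ := by
  obtain ⟨q, hq⟩ := exists_ne (1 : Q)
  intro e
  refine h (ds_bot_of_surj _ (ev1_surj (N := derivedSeries (D ≀ᵣ Q) 1) hq fun x =>
    commutator_mem_commutator (mem_top _) (mem_top _)) ?_)
  rw [add_comm] at e
  exact (map_eq_bot_iff_of_injective _ (subtype_injective _)).1 (eq_bot_iff.2 (e ▸ map_ds_le inf_le_left d))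

theorem pg_wreath [Fact p.Prime] [Finite D] [Finite Q] (hD : IsPGroup p D) (hQ : IsPGroup p Q) : IsPGroup p (D ≀ᵣ Q) := by
  obtain ⟨a, ha⟩ := hD.exists_card_eq
  obtain ⟨b, hb⟩ := hQ.exists_card_eq
  exact IsPGroup.of_card (n := a * p ^ b + b) (by rw [RegularWreathProduct.card, ha, hb, pow_add, pow_mul])

variable {E κ κ' : Type*} [Group E]

/-- restriction to a subset of the coordinates -/
noncomputable def res (W : WD G D E κ) (ι : κ' ↪ κ) : WD G D E κ' where
  b := W.b.comp (MonoidHom.prodMap (Function.ExtendByOne.hom D ι) (MonoidHom.id E))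
  s := W.s.comp (Perm.viaEmbeddingHom ι)
  conj π f e := by
    simp only [MonoidHom.comp_apply, MonoidHom.coe_prodMap, Prod.map_apply, MonoidHom.id_apply, W.conj]
    congr 3
    funext i
    rw [← map_inv, Perm.viaEmbeddingHom_apply]
    by_cases h : i ∈ Set.range ι
    · obtain ⟨j, rfl⟩ := h
      simp [Perm.viaEmbedding_apply, Function.ExtendByOne.hom, ι.injective.extend_apply]
    · rw [Perm.viaEmbedding_apply_of_notMem _ _ _ h]
      simp [Function.ExtendByOne.hom, Function.extend_apply' _ _ _ h]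
  inj f e π h := by
    obtain ⟨h1, h2, h3⟩ := W.inj _ _ _ h
    refine ⟨funext fun j => ?_, h2, Perm.viaEmbeddingHom_injective ι (h3.trans (map_one _).symm)⟩
    simpa [Function.ExtendByOne.hom, ι.injective.extend_apply] using congrFun h1 (ι j)

/-- left multiplications on the blocks -/
def blockPerm : (κ → Q) →* Perm (Q × κ) where
  toFun g := prodCongrLeft fun j => Equiv.mulLeft (g j)
  map_one' := by ext ⟨a, j⟩ <;> simp
  map_mul' g h := by ext ⟨a, j⟩ <;> simp

/-- permuting the blocks -/
def topPerm (Q : Type*) : Perm κ →* Perm (Q × κ) where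
  toFun π := prodCongrRight fun _ => π
  map_one' := by ext ⟨a, j⟩ <;> simp
  map_mul' g h := by ext ⟨a, j⟩ <;> simp

/-- nested wreath products -/
def nest (W : WD G D E (Q × κ)) : WD G (D ≀ᵣ Q) E κ where
  b := MonoidHom.mk' (fun x => W.b (fun y => (x.1 y.2).left y.1, x.2) * W.s (blockPerm fun j => (x.1 j).right))
    fun x y => by
      rw [W.mul_eq, ← map_mul]
      rfl
  s := W.s.comp (topPerm Q)
  conj π f e := by
    simp only [MonoidHom.mk'_apply, MonoidHom.comp_apply]
    rw [← mul_assoc, W.conj, mul_assoc, mul_assoc, ← map_mul, ← map_mul]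
    congr 2
    ext ⟨a, j⟩ <;> simp [blockPerm, topPerm]
  inj f e π h := by
    simp only [MonoidHom.mk'_apply, MonoidHom.comp_apply] at h
    rw [mul_assoc, ← map_mul] at h
    obtain ⟨h1, h2, h3⟩ := W.inj _ _ _ h
    have h4 : π = 1 := Equiv.ext fun j => congrArg Prod.snd (Equiv.congr_fun h3 (1, j))
    subst h4
    refine ⟨funext fun j => RegularWreathProduct.ext (funext fun a => congrFun h1 (a, j)) ?_, h2, rfl⟩
    simpa [blockPerm, topPerm] using congrArg Prod.fst (Equiv.congr_fun h3 (1, j))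

end wreath

theorem exists_emb [hp : Fact p.Prime] {κ : Type*} [Finite κ] {k : ℕ} (h : p ^ (k + 1) ≤ Nat.card κ) :
    Nonempty (Multiplicative (ZMod p) × Fin (p ^ k) ↪ κ) := by
  have := Fintype.ofFinite κ
  refine Function.Embedding.nonempty_of_card_le ?_
  simpa [pow_succ'] using h

theorem pg_zmod [hp : Fact p.Prime] : IsPGroup p (Multiplicative (ZMod p)) :=
  IsPGroup.of_card (n := 1) (by simp)

theorem ds_low [hp : Fact p.Prime] {E : Type*} [Group E] (k : ℕ) : ∀ {D : Type u} [Group D] [Finite D] {κ : Type}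
    [Finite κ] (_ : WD G D E κ) {d : ℕ}, IsPGroup p D → derivedSeries D d ≠ ⊥ → p ^ k ≤ Nat.card κ →
    ∃ K : Subgroup G, IsPGroup p K ∧ derivedSeries K (d + k) ≠ ⊥ := by
  induction k with
  | zero =>
    intro D _ _ κ _ W d hD hd h
    classical
    obtain ⟨i⟩ : Nonempty κ := (Nat.card_pos_iff.1 h).1
    have : Function.Injective (W.φ i) := (injective_iff_map_eq_one _).2 fun u hu => by
      simpa using congrFun (W.inj (Pi.mulSingle i u) 1 1 (by rw [map_one, mul_one]; exact hu)).1 i
    exact ⟨(W.φ i).range, hD.of_surjective _ (W.φ i).rangeRestrict_surjective, fun e =>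
      hd (ds_bot_of_inj (W.φ i).rangeRestrict (fun _ _ e => this (congrArg Subtype.val e)) e)⟩
  | succ k ih =>
    intro D _ _ κ _ W d hD hd h
    obtain ⟨ι⟩ := exists_emb h
    have := ih (nest (res W ι)) (pg_wreath hD pg_zmod) (ds_wreath hd) (by simp)
    rwa [add_assoc, add_comm 1] at this

/-- the trivial wreath datum -/
def permWD (κ : Type*) : WD (Perm κ) Unit Unit κ where
  b := 1
  s := MonoidHom.id _
  conj := by simp
  inj f e π h := ⟨rfl, rfl, by simpa using h⟩

theorem ds_perm_low [hp : Fact p.Prime] {κ : Type} [Finite κ] {k : ℕ} (h : p ^ (k + 1) ≤ Nat.card κ) :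
    ∃ K : Subgroup (Perm κ), IsPGroup p K ∧ derivedSeries K k ≠ ⊥ := by
  obtain ⟨ι⟩ := exists_emb h
  have := ds_low (d := 0) k (nest (res (permWD κ) ι)) (pg_wreath (IsPGroup.of_card (n := 0) (by simp)) pg_zmod)
    (by
      have : Nontrivial (Unit ≀ᵣ Multiplicative (ZMod p)) := RegularWreathProduct.equivProd _ _ |>.nontrivial
      exact top_ne_bot) (by simp)
  rwa [zero_add] at this

end Cfsg.Agent.Pool10
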