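import Cfsg.Agent.Pool10.DL
import Cfsg.Agent.Mult.CR
import Cfsg.Agent.PGrp.Sympl

/-! Derived length of linear `p`-groups. -/

namespace Cfsg.Agent.Pool10
open Subgroup Cfsg Module Finset
open scoped commutatorElement

universe v

variable {F : Type*} [Field F] {p : ℕ} {P : Type*} [Group P]

section charp
variable {V : Type*} [AddCommGroup V] [Module F V] (ρ : Representation F P V)

/-- the socle series -/
def soc : ℕ → Submodule F V
  | 0 => ⊥
  | i + 1 => ⨅ g, (soc i).comap (ρ g - 1)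

theorem mem_soc {i : ℕ} {v : V} : v ∈ soc ρ (i + 1) ↔ ∀ g, ρ g v - v ∈ soc ρ i := by simp [soc]

theorem soc_mono : ∀ i, soc ρ i ≤ soc ρ (i + 1)
  | 0 => bot_le
  | i + 1 => fun _ hv => (mem_soc ρ).2 fun g => soc_mono i ((mem_soc ρ).1 hv g)

theorem soc_inv (g : P) : ∀ i, soc ρ i ≤ (soc ρ i).comap (ρ g)
  | 0 => bot_le
  | i + 1 => fun v hv => by simpa using add_mem (soc_mono ρ i ((mem_soc ρ).1 hv g)) hv

theorem soc_top [Fact p.Prime] [CharP F p] [Finite P] [FiniteDimensional F V] (hP : IsPGroup p P) (i : ℕ) :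
    soc ρ i = ⊤ ∨ i ≤ finrank F (soc ρ i) := by
  induction i with
  | zero => simp
  | succ i ih =>
    by_cases h : soc ρ i = ⊤
    · exact Or.inl (top_le_iff.1 (h ▸ soc_mono ρ i))
    refine Or.inr ((ih.resolve_left h).trans_lt (Submodule.finrank_lt_finrank_of_lt ?_))
    have := Submodule.Quotient.nontrivial_iff.2 h
    obtain ⟨w, -, h1, h2⟩ := Mult.exists_fixed (ρ.quotient _ fun g => soc_inv ρ g i) p (hP.to_subgroup ⊤)
      (W := ⊤) (fun _ _ _ _ => trivial) top_ne_bot
    obtain ⟨w, rfl⟩ := Submodule.Quotient.mk_surjective _ w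
    refine lt_of_le_of_ne (soc_mono ρ i) fun e => h1 ((Submodule.Quotient.mk_eq_zero _).2 (e ▸ ?_))
    exact (mem_soc ρ).2 fun g => (Submodule.Quotient.eq _).1 (h2 g trivial)

/-- elements acting trivially on all `j`-fold layers -/
def lay (j : ℕ) : Subgroup P where
  carrier := {g | ∀ i, ∀ v ∈ soc ρ (i + j), ρ g v - v ∈ soc ρ i}
  one_mem' := fun i v _ => by simp
  mul_mem' {a b} ha hb i v hv := by
    simpa using add_mem (ha i _ (soc_inv ρ b _ hv)) (hb i v hv)
  inv_mem' {a} ha i v hv := by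
    simpa [← Module.End.mul_apply, ← map_mul] using neg_mem (soc_inv ρ a⁻¹ _ (ha i v hv))

theorem lay_comm (j : ℕ) : ⁅lay ρ j, lay ρ j⁆ ≤ lay ρ (j + j) := by
  refine commutator_le.2 fun a ha b hb i v hv => ?_
  obtain ⟨w, rfl⟩ : ∃ w, v = ρ b (ρ a w) := ⟨ρ a⁻¹ (ρ b⁻¹ v), by simp [← Module.End.mul_apply, ← map_mul]⟩
  have hw : w ∈ soc ρ (i + j + j) := by
    simpa [← Module.End.mul_apply, ← map_mul, add_assoc] using soc_inv ρ a⁻¹ _ (soc_inv ρ b⁻¹ _ hv)
  have : ρ ⁅a, b⁆ (ρ b (ρ a w)) = ρ a (ρ b w) := by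
    simp [← Module.End.mul_apply, ← map_mul, commutatorElement_def]
  rw [this]
  convert sub_mem (ha i _ (hb _ w hw)) (hb i _ (ha _ w hw)) using 1
  simp only [map_sub]; abel

theorem ds_charp [Fact p.Prime] [CharP F p] [Finite P] [FiniteDimensional F V] (hP : IsPGroup p P) {k : ℕ}
    (h : finrank F V ≤ 2 ^ k) {g : P} (hg : g ∈ derivedSeries P k) : ρ g = 1 := by
  have h1 : ∀ k, derivedSeries P k ≤ lay ρ (2 ^ k) := fun k => by
    induction k with
    | zero => exact fun g _ i v hv => (mem_soc ρ).1 hv g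
    | succ k ih => rw [pow_succ, mul_two]; exact (commutator_mono ih ih).trans (lay_comm ρ _)
  have h2 : soc ρ (0 + 2 ^ k) = ⊤ := (soc_top ρ hP _).elim id fun e =>
    Submodule.eq_top_of_finrank_eq (le_antisymm (Submodule.finrank_le _) (by omega))
  ext v
  exact sub_eq_zero.1 (h1 k hg 0 v (h2 ▸ trivial))

end charp

/-- faithful `p`-groups on `V` have derived length at most `k` -/
def DB (F : Type*) [Field F] (p k : ℕ) (V : Type v) [AddCommGroup V] [Module F V] : Prop :=
  ∀ (P : Type v) [Group P] [Finite P] (ρ : Representation F P V), IsPGroup p P → Function.Injective ρ →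
    derivedSeries P k = ⊥

variable {V : Type v} [AddCommGroup V] [Module F V]

theorem DB.gen {k : ℕ} (h : DB F p k V) [Finite P] (ρ : Representation F P V) (hP : IsPGroup p P) {g : P}
    (hg : g ∈ derivedSeries P k) : ρ g = 1 := by
  let φ := (MonoidHom.toHomUnits ρ).rangeRestrict
  have hφ : Function.Surjective φ := MonoidHom.rangeRestrict_surjective _
  have := Finite.of_surjective φ hφ
  have h1 := h _ ((Units.coeHom _).comp (Subgroup.subtype _)) (hP.of_surjective φ hφ)
    (Units.val_injective.comp Subtype.val_injective)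
  have h2 : φ g ∈ derivedSeries _ k := map_derivedSeries_le_derivedSeries φ k ⟨g, hg, rfl⟩
  rw [h1, mem_bot] at h2
  exact congrArg (fun x => x.1.1) h2

theorem DB.sub {k : ℕ} {W : Submodule F V} (h : DB F p k W) [Finite P] (ρ : Representation F P V) (hP : IsPGroup p P)
    (hW : ∀ g, ∀ v ∈ W, ρ g v ∈ W) {g : P} (hg : g ∈ derivedSeries P k) {v : V} (hv : v ∈ W) : ρ g v = v :=
  congrArg Subtype.val (LinearMap.congr_fun (h.gen (ρ.subrepresentation W hW) hP hg) ⟨v, hv⟩)

theorem fix_norm (ρ : Representation F P V) {w : P} (hw : w ^ p = 1) (v : V) :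
    ρ w (∑ j ∈ range p, ρ (w ^ j) v) = ∑ j ∈ range p, ρ (w ^ j) v := by
  have := LinearMap.congr_fun (mul_geom_sum (ρ w) p) v
  rw [← map_pow, hw, map_one, sub_self] at this
  simpa [sub_eq_zero] using this

theorem pow_fix (ρ : Representation F P V) {w : P} {v : V} (h : ρ w v = v) (j : ℕ) : ρ (w ^ j) v = v := by
  induction j with
  | zero => simp
  | succ j ih => rw [pow_succ, map_mul, Module.End.mul_apply, h, ih]

theorem db_step [hp : Fact p.Prime] (hF : (p : F) ≠ 0) [FiniteDimensional F V] {k : ℕ}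
    (h1 : ∀ W : Submodule F V, W ≠ ⊤ → DB F p (k + 1) W)
    (h2 : ∀ W : Submodule F V, p * finrank F W ≤ finrank F V → DB F p k W)
    [Finite P] (ρ : Representation F P V) (hP : IsPGroup p P) (hρ : Function.Injective ρ)
    {B : Subgroup P} [B.Normal] (hB : IsElementaryAbelian p B) (hc : Nat.card B = p ^ 2) :
    derivedSeries P (k + 1) = ⊥ := by
  classical
  have := hP.isNilpotent
  have hp1 := hp.out.one_lt
  have mul : ∀ a b v, ρ a (ρ b v) = ρ (a * b) v := fun a b v => by simp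
  have fin : (∀ g ∈ derivedSeries P (k + 1), ∀ v, ρ g ((p : F) • v) = (p : F) • v) → derivedSeries P (k + 1) = ⊥ :=
    fun h => eq_bot_iff.2 fun g hg => hρ (by
      ext v
      simpa [hF] using smul_right_injective V hF ((map_smul _ _ _).symm.trans (h g hg v)))
  have prop : ∀ w : P, w ≠ 1 → LinearMap.ker (ρ w - 1) ≠ ⊤ := fun w hw e =>
    hw (hρ ((sub_eq_zero.1 (LinearMap.ker_eq_top.1 e)).trans (map_one ρ).symm))
  have mk : ∀ {w : P} {v : V}, v ∈ LinearMap.ker (ρ w - 1) ↔ ρ w v = v := by simp [sub_eq_zero]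
  obtain ⟨z, hzB, hz1, hz⟩ := PGrp.exists_central_mod (M := ⊥) (N := B) fun h => by
    rw [le_bot_iff.1 h, card_bot] at hc; nlinarith
  have hzc : z ∈ center P := mem_center_iff.2 fun g => (commutatorElement_eq_one_iff_mul_comm.1 (hz g)).symm
  have hzp := hB.2 z hzB
  have hC : zpowers z ≤ center P := zpowers_le.2 hzc
  have hCB : zpowers z ≤ B := zpowers_le.2 hzB
  have hCc : Nat.card (zpowers z) = p := PGrp.card_zpowers_of_pow_eq_one hzp hz1
  have : (zpowers z).Normal := ⟨fun n hn g => by rwa [mem_center_iff.1 (hC hn) g, mul_inv_cancel_right]⟩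
  obtain ⟨x, hxB, hx1, hx⟩ := PGrp.exists_central_mod (M := zpowers z) (N := B) fun h => by
    have := card_le_of_le h; rw [hc, hCc] at this; nlinarith
  by_cases h0 : LinearMap.ker (ρ z - 1) = ⊥
  swap
  · let N : Module.End F V := ∑ j ∈ range p, ρ (z ^ j)
    have hN : ∀ v, N v = ∑ j ∈ range p, ρ (z ^ j) v := fun v => by simp [N]
    have hN1 : ∀ v, ρ z v = v → N v = (p : F) • v := fun v hv => by
      simp only [hN, pow_fix ρ hv, Nat.cast_smul_eq_nsmul, sum_const, card_range]
    refine fin fun g hg v => ?_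
    have e1 : ρ g (N v) = N v := (h1 _ (prop z hz1)).sub ρ hP
      (fun y u hu => mk.2 (by rw [mul, ← mem_center_iff.1 hzc, ← mul, mk.1 hu])) hg (mk.2 (hN v ▸ fix_norm ρ hzp v))
    have e2 : ρ g ((p : F) • v - N v) = (p : F) • v - N v := by
      refine (h1 (LinearMap.ker N) fun e => ?_).sub ρ hP (fun y u hu => ?_) hg ?_
      · obtain ⟨u, hu, hu0⟩ := Submodule.exists_mem_ne_zero_of_ne_bot h0
        have : N u = 0 := by rw [LinearMap.ker_eq_top.1 e]; rfl
        rw [hN1 u (mk.1 hu)] at this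
        exact hu0 ((smul_eq_zero.1 this).resolve_left hF)
      · rw [LinearMap.mem_ker] at hu ⊢
        rw [← map_zero (ρ y), ← hu, hN, hN, map_sum]
        exact sum_congr rfl fun j _ => by rw [mul, mul, mem_center_iff.1 (pow_mem hzc j)]
      · rw [LinearMap.mem_ker, map_sub, map_smul, hN1 (N v) (hN v ▸ fix_norm ρ hzp v), sub_self]
    rwa [map_sub, e1, sub_left_inj] at e2
  have gen : ∀ w ∈ zpowers z, w ≠ 1 → zpowers w = zpowers z := fun w hw h =>
    eq_of_le_of_card_ge (zpowers_le.2 hw) (by rw [hCc, PGrp.card_zpowers_of_pow_eq_one (hB.2 w (hCB hw)) h])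
  have fpf : ∀ w ∈ zpowers z, w ≠ 1 → ∀ v, ρ w v = v → v = 0 := fun w hw h v hv => by
    obtain ⟨m, hm⟩ := mem_powers_iff_mem_zpowers.2 (gen w hw h ▸ mem_zpowers z : z ∈ zpowers w)
    exact (Submodule.mem_bot F).1 (h0 ▸ mk.2 (hm ▸ pow_fix ρ hv m))
  have := Fintype.ofFinite (zpowers z)
  let U : zpowers z → Submodule F V := fun w => LinearMap.ker (ρ (x * w) - 1)
  have hpow : ∀ w : zpowers z, (x * w) ^ p = 1 := fun w => hB.2 _ (mul_mem hxB (hCB w.2))
  have hcm : ∀ (y : P) (w : zpowers z), Commute y w := fun y w => mem_center_iff.1 (hC w.2) y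
  have span : ∀ v, (p : F) • v = ∑ w : zpowers z, ∑ j ∈ range p, ρ ((x * w) ^ j) v := fun v => by
    rw [sum_comm, sum_eq_single 0]
    · simp [← Nat.card_eq_fintype_card, hCc, Nat.cast_smul_eq_nsmul]
    · intro j hj hj0
      have hcop : (Nat.card (zpowers z)).Coprime j := by
        rw [hCc]; exact (Nat.coprime_of_lt_prime hj0 (mem_range.1 hj) hp.out)
      have e1 : ∑ w : zpowers z, ρ w v = 0 := fpf z (mem_zpowers z) hz1 _ (by
        rw [map_sum]
        exact Fintype.sum_equiv (Equiv.mulLeft ⟨z, mem_zpowers z⟩) _ _ fun w => mul _ _ _)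
      rw [← map_zero (ρ (x ^ j)), ← e1, map_sum]
      exact Fintype.sum_equiv (powCoprime hcop) _ _ fun w => by rw [mul, (hcm x w).mul_pow]; rfl
    · simp [hp.out.ne_zero]
  suffices h : ∀ g ∈ derivedSeries P (k + 1), ∀ w, ∀ v ∈ U w, ρ g v = v from fin fun g hg v => by
    rw [span, map_sum]
    exact sum_congr rfl fun w _ => h g hg w _ (mk.2 (fix_norm ρ (hpow w) v))
  by_cases hxc : x ∈ center P
  · refine fun g hg w v hv => (h1 (U w) (prop _ fun e => hx1 ?_)).sub ρ hP (fun y u hu => mk.2 ?_) hg hv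
    · rw [eq_inv_of_mul_eq_one_left e]; exact inv_mem w.2
    · rw [mul, ← mem_center_iff.1 (mul_mem hxc (hC w.2)), ← mul, mk.1 hu]
  have hx' : ∀ y, ⁅y, x⁆ ∈ zpowers z := fun y => by
    rw [← commutatorElement_inv]; exact inv_mem (hx y)
  let f : P →* center P := MonoidHom.mk' (fun y => ⟨⁅y, x⁆, hC (hx' y)⟩) fun a b => Subtype.ext
    ((PGrp.commutator_mul_left (mem_center_iff.1 (hC (hx' b)) a).symm).trans (mem_center_iff.1 (hC (hx' a)) _))
  have hM : derivedSeries P 1 ≤ f.ker := commutator_le.2 fun a _ b _ => by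
    rw [MonoidHom.mem_ker, map_commutatorElement, commutatorElement_eq_one_iff_mul_comm]
    exact Subtype.ext (mem_center_iff.1 (f b).2 _)
  have tr : ∀ w ∈ zpowers z, ∃ y, ⁅y, x⁆ = w := fun w hw => by
    obtain ⟨y, hy⟩ : ∃ y, ⁅y, x⁆ ≠ 1 := by
      by_contra! h
      exact hxc (mem_center_iff.2 fun y => commutatorElement_eq_one_iff_mul_comm.1 (h y))
    rw [← gen _ (hx' y) hy] at hw
    obtain ⟨m, rfl⟩ := hw
    exact ⟨y ^ m, (congrArg Subtype.val (map_zpow f y m)).trans (by simp [f])⟩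
  obtain ⟨w₀, -, hw₀⟩ := exists_min_image univ (fun w => finrank F (U w)) univ_nonempty
  have dim : p * finrank F (U w₀) ≤ finrank F V := by
    let Φ : (Π w, U w) →ₗ[F] V := ∑ w, (U w).subtype ∘ₗ LinearMap.proj w
    have hΦ : Function.Injective Φ := by
      rw [injective_iff_map_eq_zero]
      intro a ha
      ext w
      have e1 : ∑ j ∈ range p, ρ ((x * w) ^ j) (Φ a) = 0 := by simp [ha]
      have e2 : ∀ (u : zpowers z) j, ρ ((x * u) ^ j) (a u) = a u := fun u j => pow_fix ρ (mk.1 (a u).2) j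
      simp only [Φ, LinearMap.coe_sum, Finset.sum_apply, LinearMap.comp_apply, LinearMap.proj_apply,
        Submodule.subtype_apply, map_sum] at e1
      rw [sum_comm, sum_eq_single w] at e1
      · simp only [e2, sum_const, card_range, ← Nat.cast_smul_eq_nsmul F] at e1
        exact (smul_eq_zero.1 e1).resolve_left hF
      · intro u _ hu
        have e3 : ∀ j, ρ ((x * w) ^ j) (a u) = ρ (((w * u⁻¹ : zpowers z) : P) ^ j) (a u) := fun j => by
          have : x * w = (w * u⁻¹ : zpowers z) * (x * u) := by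
            rw [← (hcm _ _).eq, mul_assoc, ← Subgroup.coe_mul, mul_comm' u, inv_mul_cancel_right]
          rw [this, (hcm _ _).symm.mul_pow, ← mul, e2]
        simp only [e3]
        exact fpf (w * u⁻¹ : zpowers z) (SetLike.coe_mem _) (by simpa [mul_inv_eq_one] using hu.symm) _
          (fix_norm ρ (hB.2 _ (hCB (w * u⁻¹ : zpowers z).2)) (a u))
      · simp
    calc p * finrank F (U w₀) = ∑ _w : zpowers z, finrank F (U w₀) := by
          simp [← Nat.card_eq_fintype_card, hCc]
      _ ≤ ∑ w, finrank F (U w) := sum_le_sum hw₀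
      _ = finrank F (Π w, U w) := (finrank_pi_fintype F).symm
      _ ≤ _ := LinearMap.finrank_le_finrank_of_injective hΦ
  have base : ∀ g ∈ derivedSeries P (k + 1), ∀ v ∈ U w₀, ρ g v = v := fun g hg v hv => by
    rw [add_comm] at hg
    obtain ⟨g, hg', rfl⟩ := ds_add_le hM k hg
    refine (h2 _ dim).sub (ρ.comp f.ker.subtype) (hP.to_subgroup _) (fun y u hu => mk.2 ?_) hg' hv
    have e1 : Commute (y : P) x := commutatorElement_eq_one_iff_commute.1 (congrArg Subtype.val y.2)
    change ρ _ (ρ y u) = ρ y u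
    rw [mul, ← (e1.mul_right (hcm y w₀)).eq, ← mul, mk.1 hu]
  intro g hg w v hv
  obtain ⟨y, hy⟩ := tr _ (w₀ * w⁻¹).2
  have e1 : ρ y v ∈ U w₀ := mk.2 (by
    have : x * w₀ * y = y * (x * w) := by
      have e2 : y * x = (w₀ * w⁻¹ : zpowers z) * (x * y) := hy ▸ PGrp.mul_eq_commutator_mul x y
      rw [← mul_assoc, e2, ← (hcm _ _).eq, mul_assoc (x * y), mul_assoc x, mul_assoc x, ← (hcm _ w₀).eq]
      simp
    rw [mul, this, ← mul, mk.1 hv])
  have e2 := base _ ((derivedSeries_normal P _).conj_mem g hg y) _ e1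
  rw [mul, inv_mul_cancel_right, ← mul] at e2
  simpa [← Module.End.mul_apply, ← map_mul] using congrArg (ρ y⁻¹) e2

theorem db_main [hp : Fact p.Prime] (hF : (p : F) ≠ 0) {e : ℕ} (h2 : p = 2 → e ≤ 1)
    (h0 : ∀ (W : Type v) [AddCommGroup W] [Module F W] [FiniteDimensional F W], finrank F W < e →
      ∀ (g : Module.End F W) (j : ℕ), g ^ p ^ j = 1 → g = 1) (k : ℕ) :
    ∀ (n : ℕ) (V : Type v) [AddCommGroup V] [Module F V] [FiniteDimensional F V], finrank F V = n → n < e * p ^ k →
      DB F p k V := by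
  induction k with
  | zero =>
    intro n V _ _ _ hn h P _ _ ρ hP hρ
    refine eq_bot_iff.2 fun g _ => hρ ?_
    obtain ⟨j, hj⟩ := hP g
    rw [map_one]
    exact h0 V (by simpa [hn] using h) _ j (by rw [← map_pow, hj, map_one])
  | succ k ih =>
    intro n
    induction n using Nat.strong_induction_on with
    | _ n ih' =>
    intro V _ _ _ hn h P _ _ ρ hP hρ
    have ab : ∀ {Q : Type v} [Group Q], (∀ a b : Q, a * b = b * a) → derivedSeries Q 1 = ⊥ := fun h =>
      commutator_eq_bot_iff_le_centralizer.2 fun a _ b _ => h b a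
    by_cases hB : ∃ B : Subgroup P, B.Normal ∧ IsElementaryAbelian p B ∧ Nat.card B = p ^ 2
    · obtain ⟨B, _, hB, hc⟩ := hB
      refine db_step hF (fun W hW => ?_) (fun W hW => ih _ W rfl ?_) ρ hP hρ hB hc
      · have := Submodule.finrank_lt hW
        exact ih' _ (by omega) W rfl (by omega)
      · rw [pow_succ', mul_left_comm] at h
        exact lt_of_mul_lt_mul_left (hW.trans_lt (hn ▸ h)) p.zero_le
    push Not at hB
    rcases PGrp.isCyclic_or_isMC hP hB with hc | ⟨rfl, a, x, m, hc⟩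
    · exact ds_bot_mono (ab fun a b => (IsCyclic.isMulCommutative (α := P)).1.1 a b) (by omega)
    rcases k with _ | k
    · refine ab fun a b => hρ ?_
      obtain ⟨v, hv⟩ := finrank_le_one_iff.1 (show finrank F V ≤ 1 by have := h2 rfl; simp at h; omega)
      ext w
      obtain ⟨c, rfl⟩ := hv w
      obtain ⟨c1, h1⟩ := hv (ρ a v)
      obtain ⟨c2, h2⟩ := hv (ρ b v)
      simp [← h1, ← h2, smul_smul, mul_comm]
    · have := hc.normal
      have h1 : derivedSeries P 1 ≤ zpowers a := Solv.commutator_le_of_prime_index (hc.idx ▸ Nat.prime_two)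
      have h3 := ds_add_le h1 1
      rw [ab fun a b => mul_comm' a b, Subgroup.map_bot] at h3
      exact ds_bot_mono (le_bot_iff.1 h3) (by omega)

theorem ds_GL [Fact p.Prime] [Finite P] {I : Type} [Fintype I] [DecidableEq I] (hP : IsPGroup p P) {k : ℕ}
    (h : DB F p k (I → F)) (ρ : P →* GL I F) (hρ : Function.Injective ρ) : derivedSeries P k = ⊥ :=
  eq_bot_iff.2 fun g hg => hρ (Units.ext (Matrix.toLinAlgEquiv'.injective ((h.gen
    ((Matrix.toLinAlgEquiv' (R := F) (n := I)).toMulEquiv.toMonoidHom.comp ((Units.coeHom _).comp ρ)) hP hg).trans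
      (by simp))))

theorem ds_GL_two [hp : Fact p.Prime] [Finite P] {I : Type} [Fintype I] [DecidableEq I] (hP : IsPGroup p P) {k : ℕ}
    (h : Fintype.card I < 2 ^ k) (ρ : P →* GL I F) (hρ : Function.Injective ρ) : derivedSeries P k = ⊥ := by
  by_cases hF : (p : F) = 0
  · have := (CharP.charP_iff_prime_eq_zero hp.out).2 hF
    exact eq_bot_iff.2 fun g hg => hρ (Units.ext (Matrix.toLinAlgEquiv'.injective ((ds_charp
      ((Matrix.toLinAlgEquiv' (R := F) (n := I)).toMulEquiv.toMonoidHom.comp ((Units.coeHom _).comp ρ)) hP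
        (by simpa using h.le) hg).trans (by simp))))
  · refine ds_GL hP (db_main hF (e := 1) (fun _ => le_rfl) (fun W _ _ _ h g j _ => ?_) k _ _ rfl ?_) ρ hρ
    · have := finrank_zero_iff.1 (show finrank F W = 0 by omega)
      exact Subsingleton.elim _ _
    · simpa using h.trans_le (Nat.pow_le_pow_left hp.out.two_le k)

theorem not_dvd_GL [hp : Fact p.Prime] [Fintype F] (hq : ¬ p ∣ Fintype.card F) {n : ℕ}
    (h : n < orderOf (Fintype.card F : ZMod p)) : ¬ p ∣ Nat.card (GL (Fin n) F) := by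
  rw [Matrix.card_GL_field, hp.out.prime.dvd_finsetProd_iff]
  rintro ⟨i, -, hi⟩
  rw [← ZMod.natCast_eq_zero_iff, Nat.cast_sub (Nat.pow_le_pow_right Fintype.card_pos i.2.le), sub_eq_zero,
    Nat.cast_pow, Nat.cast_pow, ← pow_mul_pow_sub _ i.2.le, mul_eq_left₀ (pow_ne_zero _
      (by rwa [ne_eq, ZMod.natCast_eq_zero_iff]))] at hi
  have := Nat.le_of_dvd (by have := i.2; omega) (orderOf_dvd_of_pow_eq_one hi)
  omega

theorem ds_GL_odd [hp : Fact p.Prime] (h2 : p ≠ 2) [Fintype F] (hq : ¬ p ∣ Fintype.card F) [Finite P] {n k : ℕ}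
    (hP : IsPGroup p P) (h : n < orderOf (Fintype.card F : ZMod p) * p ^ k) (ρ : P →* GL (Fin n) F)
    (hρ : Function.Injective ρ) : derivedSeries P k = ⊥ := by
  refine ds_GL hP (db_main (fun e => hq ((prime_dvd_char_iff_dvd_card p).1 ?_))
    (fun e => absurd e h2) (fun W _ _ _ h g j hg => ?_) k _ _ rfl (by simpa using h)) ρ hρ
  · have := (CharP.charP_iff_prime_eq_zero hp.out).2 e
    rw [ringChar.eq F p]
  · let b := finBasis F W
    let u : GL (Fin (finrank F W)) F := Units.map (LinearMap.toMatrixAlgEquiv b).toMulEquiv.toMonoidHom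
      (Units.ofPowEqOne g _ hg (pow_ne_zero _ hp.out.ne_zero))
    have h1 : u ^ p ^ j = 1 := by
      rw [← map_pow, Units.pow_ofPowEqOne, map_one]
    obtain ⟨i, -, hi⟩ := (Nat.dvd_prime_pow hp.out).1 (orderOf_dvd_of_pow_eq_one h1)
    have h3 : u = 1 := by
      rcases i with _ | i
      · simpa using hi
      · exact absurd (((dvd_pow_self p i.succ_ne_zero).trans hi.symm.dvd).trans (orderOf_dvd_natCard u))
          (not_dvd_GL hq h)
    exact (LinearMap.toMatrixAlgEquiv b).injective ((congrArg Units.val h3).trans (by simp))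

end Cfsg.Agent.Pool10
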